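import Cfsg.Agent.H245.FC.Model
import Cfsg.Agent.H198.FC.Defs

/-!
# S5764, L-C3b: `StmtC3` for `dim V = 4`, `[E : K] = 2` (helper245)
-/

set_option autoImplicit false

namespace Cfsg.Agent.H245.FC

open Cfsg.Agent.H198.FC

universe u v w

theorem one_add_pow {A : Type*} [Ring A] {y : A} (hy : y * y = 0) (n : ℕ) : (1 + y) ^ n = 1 + n • y := by
  induction n with
  | zero => simp
  | succ n ih => rw [pow_succ, ih, add_mul, one_mul, smul_mul_assoc, mul_add, mul_one, hy, add_zero, add_assoc,
      ← succ_nsmul']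

theorem det_one_add {K : Type u} [Field K] [Finite K] {V : Type v} [AddCommGroup V] [Module K V]
    {y : Module.End K V} (hy : y * y = 0) : LinearMap.det (1 + y) = 1 := by
  obtain ⟨p, hp⟩ := CharP.exists K
  have hpp : p.Prime := CharP.char_is_prime K p
  have : Fact p.Prime := ⟨hpp⟩
  have h1 : (1 + y) ^ p = 1 := by
    rw [one_add_pow hy, ← Nat.cast_smul_eq_nsmul K, CharP.cast_eq_zero, zero_smul, add_zero]
  have h2 : LinearMap.det (1 + y) ^ p = 1 := by
    rw [← map_pow, h1, map_one]
  have h3 : frobenius K p (LinearMap.det (1 + y)) = frobenius K p 1 := by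
    rw [frobenius_def, frobenius_def, h2, one_pow]
  exact frobenius_inj K p h3

theorem five_aux {K : Type u} [Field K] [Finite K] {V : Type v} [AddCommGroup V] [Module K V] [Module.Finite K V]
    {F : Type w} [Field F] [Finite F] [Algebra K F] (j : F →ₐ[K] R K V) (h2 : Module.finrank K F = 2)
    (h4 : Module.finrank K V = 4) (S : Subgroup (Equiv.Perm (R K V))) (hS : S ≤ RA K V)
    (hSE : ∀ f ∈ S, ∀ a : F, ∃ b : F, f (j a) = j b) : Five S := by
  let _ : Module F V := Module.compHom V (j : F →+* R K V)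
  have hsm : ∀ (a : F) (v : V), a • v = j a v := fun _ _ => rfl
  have : IsScalarTower K F V := ⟨fun k a v => by
    rw [hsm, hsm, map_smul]; rfl⟩
  have : Module.Finite F V := Module.Finite.of_restrictScalars_finite K F V
  have h5 : Module.finrank F V = 2 := by
    have h6 := Module.finrank_mul_finrank K F V
    rw [h2, h4] at h6
    omega
  have h6 : Module.finrank F V = Module.finrank F (F × F) := by
    rw [h5, Module.finrank_prod, Module.finrank_self]
  let Ψ : V ≃ₗ[F] (F × F) := LinearEquiv.ofFinrankEq V (F × F) h6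
  let Θ : Module.End K (F × F) ≃ₐ[K] R K V := ((Ψ.restrictScalars K).symm).conjAlgEquiv K
  have hΘ : ∀ a : F, Θ (sc K a) = j a := by
    intro a
    apply LinearMap.ext
    intro v
    show Ψ.symm (a • Ψ v) = j a v
    rw [map_smul, LinearEquiv.symm_apply_apply]
    rfl
  obtain ⟨D⟩ := exists_dat K F h2
  let ys : Fin 4 → Module.End K (F × F) := ![D.y1, D.y2, D.y3, D.y4]
  have hys : ∀ i, ys i * ys i = 0 := by
    intro i
    fin_cases i
    · exact D.sq1
    · exact D.sq2
    · exact D.sq3
    · exact D.sq4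
  have hu1 : ∀ i, (1 + ys i) * (1 - ys i) = 1 := fun i => by
    rw [mul_sub, mul_one, add_mul, one_mul, hys, add_zero, add_sub_cancel_right]
  have hu2 : ∀ i, (1 - ys i) * (1 + ys i) = 1 := fun i => by
    rw [mul_add, mul_one, sub_mul, one_mul, hys, sub_zero, sub_add_cancel]
  let x : Fin 4 → (R K V)ˣ := fun i =>
    ⟨Θ (1 + ys i), Θ (1 - ys i), by rw [← map_mul, hu1, map_one], by rw [← map_mul, hu2, map_one]⟩
  refine ⟨x, fun i => ?_, fun f hf hfx => ?_⟩
  · show LinearMap.det (Θ (1 + ys i)) = 1
    rw [map_add, map_one]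
    apply det_one_add
    rw [← map_mul, hys, map_zero]
  · let f' : Equiv.Perm (Module.End K (F × F)) := (Θ.toEquiv.trans f).trans Θ.symm.toEquiv
    have hf' : ∀ X, f' X = Θ.symm (f (Θ X)) := fun _ => rfl
    obtain ⟨hadd, hm⟩ := hS hf
    have h7 : f' = 1 := by
      refine D.model h2 f' ?_ ?_ ?_ ?_
      · intro X Y
        rw [hf', hf', hf', map_add, hadd, map_add]
      · rcases hm with hm | hm
        · left; intro X Y
          rw [hf', hf', hf', map_mul, hm, map_mul]
        · right; intro X Y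
          rw [hf', hf', hf', map_mul, hm, map_mul]
      · intro a
        obtain ⟨b, hb⟩ := hSE f hf a
        refine ⟨b, ?_⟩
        rw [hf', hΘ, hb, ← hΘ, AlgEquiv.symm_apply_apply]
      · intro y hy a
        obtain ⟨i, rfl⟩ : ∃ i, ys i = y := by
          rcases hy with rfl | rfl | rfl | rfl
          · exact ⟨0, rfl⟩
          · exact ⟨1, rfl⟩
          · exact ⟨2, rfl⟩
          · exact ⟨3, rfl⟩
        obtain ⟨b, hb⟩ := hSE _ (hfx i) a
        refine ⟨b, ?_⟩
        apply Θ.injective
        have e : Θ ((1 - ys i) * sc K a * (1 + ys i)) = Θ (1 - ys i) * j a * Θ (1 + ys i) := by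
          rw [map_mul, map_mul, hΘ]
        rw [hΘ, ← hb, map_mul, map_mul, hf', AlgEquiv.apply_symm_apply, e]
        rfl
    apply Equiv.ext
    intro X
    have h8 := congrArg (fun g : Equiv.Perm (Module.End K (F × F)) => g (Θ.symm X)) h7
    have h9 : Θ.symm (f (Θ (Θ.symm X))) = Θ.symm X := h8
    rw [AlgEquiv.apply_symm_apply] at h9
    exact Θ.symm.injective h9

/-- **L-C3b**: `StmtC3` for `dim V = 4` and `[E : K] = 2` (no solvability needed). -/
theorem stmtC3_four (K : Type u) [Field K] [Finite K] (V : Type v) [AddCommGroup V] [Module K V] [Module.Finite K V]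
    (S : Subgroup (Equiv.Perm (R K V))) (hS : S ≤ RA K V) (h4 : Module.finrank K V = 4)
    (E : Subalgebra K (R K V)) (hE : IsField E) (h2 : Module.finrank K E = 2)
    (hSE : ∀ f ∈ S, ∀ X ∈ E, f X ∈ E) : Five S := by
  have : Finite V := Module.finite_of_finite K
  have : Finite (R K V) := Module.finite_of_finite K
  have : Finite E := inferInstance
  exact @five_aux K _ _ V _ _ _ E hE.toField _ E.algebra E.val h2 h4 S hS
    (fun f hf a => ⟨⟨f a, hSE f hf a a.2⟩, rfl⟩)

end Cfsg.Agent.H245.FC
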