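import Cfsg.Agent.H245.FC.CyModel

/-!
# S5764, L-C3c: `|K| ≥ 3` (helper245)
-/

set_option autoImplicit false
set_option linter.unusedSectionVars false

namespace Cfsg.Agent.H245.FC

open Module Cfsg.Agent.H198.FC Cfsg.Agent.H184.FC

universe u v w

variable {K : Type u} [Field K] [Finite K] {V : Type v} [AddCommGroup V] [Module K V] [Module.Finite K V]
  {F : Type w} [Field F] [Finite F] [Algebra K F]

theorem exists_gen_field (F : Type w) [Field F] [Finite F] : ∃ g : F, g ≠ 0 ∧ ∀ a : F, a = 0 ∨ ∃ k : ℕ, a = g ^ k := by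
  obtain ⟨g, hg⟩ := IsCyclic.exists_generator (α := Fˣ)
  refine ⟨g, g.ne_zero, fun a => ?_⟩
  by_cases ha : a = 0
  · exact Or.inl ha
  right
  obtain ⟨k, hk⟩ := (mem_powers_iff_mem_zpowers (x := g)).2 (hg (Units.mk0 a ha))
  refine ⟨k, ?_⟩
  have := congrArg (fun u : Fˣ => (u : F)) hk
  simpa using this.symm

/-- a ring automorphism fixing all `τ(u)/u` is trivial -/
theorem rho_one {τ : F ≃ₐ[K] F} (hτ : τ ≠ 1) {g : F} (hg0 : g ≠ 0) (hg : ∀ a : F, a = 0 ∨ ∃ k : ℕ, a = g ^ k)
    (ρ : F ≃+* F) (h : ρ (τ g / g) = τ g / g) : ∀ a, ρ a = a := by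
  have hτg : τ g ≠ g := by
    intro e
    apply hτ
    ext a
    rcases hg a with rfl | ⟨k, rfl⟩
    · simp
    · rw [map_pow, e]; rfl
  have h1 : ∀ u : F, u ≠ 0 → ρ (τ u / u) = τ u / u := by
    intro u hu
    rcases hg u with h0 | ⟨k, rfl⟩
    · exact absurd h0 hu
    · rw [map_pow, ← div_pow, map_pow, h]
  have h2 : ∀ u : F, u ≠ 0 → τ (ρ u / u) = ρ u / u := by
    intro u hu
    have hρu : ρ u ≠ 0 := by rwa [Ne, map_eq_zero_iff ρ ρ.injective]
    have hτu : τ u ≠ 0 := by rwa [Ne, map_eq_zero_iff τ τ.injective]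
    have h3 := h1 u hu
    rw [map_div₀, comm_gal] at h3
    rw [map_div₀]
    field_simp
    field_simp at h3
    linear_combination h3
  have h3 : ∀ u : F, τ u ≠ u → ρ u = u := by
    intro u hu
    have hu0 : u ≠ 0 := fun e => hu (by rw [e, map_zero])
    have hu1 : 1 + u ≠ 0 := by
      intro e
      apply hu
      have : u = -1 := (eq_neg_of_add_eq_zero_right e)
      rw [this, map_neg, map_one]
    obtain ⟨c, hc⟩ : ∃ c, c = ρ u / u := ⟨_, rfl⟩
    obtain ⟨d, hd⟩ : ∃ d, d = ρ (1 + u) / (1 + u) := ⟨_, rfl⟩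
    have hc1 : τ c = c := by rw [hc]; exact h2 u hu0
    have hd1 : τ d = d := by rw [hd]; exact h2 _ hu1
    have hc2 : ρ u = c * u := by rw [hc]; field_simp
    have hd2 : ρ (1 + u) = d * (1 + u) := by rw [hd]; field_simp
    rw [map_add, map_one, hc2] at hd2
    have h4 : (d - 1) = (c - d) * u := by linear_combination -hd2
    by_cases hcd : c - d = 0
    · rw [hcd, zero_mul, sub_eq_zero] at h4
      rw [hc2, sub_eq_zero.1 hcd, h4, one_mul]
    · exfalso
      apply hu
      have h5 : u = (d - 1) / (c - d) := by rw [h4]; field_simp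
      rw [h5, map_div₀, map_sub, map_sub, map_one, hc1, hd1]
  intro a
  by_cases ha : τ a = a
  · by_cases ha0 : a = 0
    · rw [ha0, map_zero]
    have h4 : τ (a * g) ≠ a * g := by
      rw [map_mul, ha]
      intro e
      exact hτg (mul_left_cancel₀ ha0 e)
    have h5 := h3 _ h4
    rw [map_mul, h3 g hτg] at h5
    exact mul_right_cancel₀ hg0 h5
  · exact h3 a ha

theorem exists_nu {K : Type u} [Field K] [Finite K] (h3 : 3 ≤ Nat.card K) :
    ∃ ν : K, ν ≠ 0 ∧ ν ≠ 1 ∧ (4 ≤ Nat.card K → ν * ν ≠ 1) := by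
  classical
  have := Fintype.ofFinite K
  rw [Nat.card_eq_fintype_card] at h3 ⊢
  by_cases h4 : 4 ≤ Fintype.card K
  · by_contra hcon
    push Not at hcon
    have h1 : (Finset.univ : Finset K) ⊆ {0, 1, -1} := by
      intro ν _
      simp only [Finset.mem_insert, Finset.mem_singleton]
      by_cases h0 : ν = 0
      · exact Or.inl h0
      by_cases h1 : ν = 1
      · exact Or.inr (Or.inl h1)
      obtain ⟨-, h2⟩ := hcon ν h0 h1
      have h5 : (ν - 1) * (ν + 1) = 0 := by linear_combination h2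
      rcases mul_eq_zero.1 h5 with h6 | h6
      · exact absurd (sub_eq_zero.1 h6) h1
      · exact Or.inr (Or.inr (eq_neg_of_add_eq_zero_left h6))
    have h2 := Finset.card_le_card h1
    have h5 : ({0, 1, -1} : Finset K).card ≤ 3 := Finset.card_le_three
    rw [Finset.card_univ] at h2
    omega
  · by_contra hcon
    push Not at hcon
    have h1 : (Finset.univ : Finset K) ⊆ {0, 1} := by
      intro ν _
      simp only [Finset.mem_insert, Finset.mem_singleton]
      by_cases h0 : ν = 0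
      · exact Or.inl h0
      by_cases h1 : ν = 1
      · exact Or.inr h1
      exact absurd (hcon ν h0 h1).1 h4
    have h2 := Finset.card_le_card h1
    have h5 : ({0, 1} : Finset K).card ≤ 2 := Finset.card_le_two
    rw [Finset.card_univ] at h2
    omega

namespace Cy

variable {φ : F →ₐ[K] R K V} (C : Cy φ)

theorem phi_unit {b : F} (hb : b ≠ 0) : IsUnit (φ b) := by
  have := (Units.mk0 b hb).isUnit.map φ
  exact this

include C

theorem exists_unit {a : F} (ha : Algebra.norm K (-a) ≠ 1) :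
    ∃ x x' : (R K V)ˣ, LinearMap.det (x : R K V) = 1 ∧ (x' : R K V) = 1 + φ a * C.T ∧
      ∀ f : Equiv.Perm (R K V), Kp φ f x → Kp φ f x' := by
  obtain ⟨x', hx'⟩ := C.inj a ha
  have hd : LinearMap.det (x' : R K V) ≠ 0 := (x'.isUnit.map LinearMap.det).ne_zero
  obtain ⟨b, hb⟩ := FiniteField.norm_surjective K F (LinearMap.det (x' : R K V))⁻¹
  have hb0 : b ≠ 0 := by
    rw [← Algebra.norm_ne_zero_iff (R := K), hb]
    exact inv_ne_zero hd
  obtain ⟨B, hB⟩ := phi_unit (φ := φ) hb0
  refine ⟨B * x', x', ?_, hx', fun f hf => ?_⟩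
  · rw [Units.val_mul, map_mul, hB, C.det, hb, inv_mul_cancel₀ hd]
  · exact Kp.of_mul (b := b) (by rw [Units.val_mul, hB]) hf

theorem five_big [Nontrivial V] (h : finrank K F = finrank K V) (he : (finrank K F).Prime)
    (S : Subgroup (Equiv.Perm (R K V))) (hS : S ≤ RA K V)
    (h2 : finrank K V = 2 → S ≤ RP K V ∧ 4 ≤ Nat.card K) (h3 : 3 ≤ Nat.card K)
    (hSE : ∀ f ∈ S, ∀ a : F, ∃ b : F, f (φ a) = φ b) : Five S := by
  classical
  obtain ⟨g, hg0, hg⟩ := exists_gen_field F
  have hτ : C.τ ≠ 1 := by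
    intro e
    have h4 := C.ord
    rw [e, orderOf_one] at h4
    exact he.one_lt.ne h4
  have hττ : finrank K F ≠ 2 → C.τ * C.τ ≠ 1 := by
    intro h4 e
    have h5 : orderOf C.τ ∣ 2 := orderOf_dvd_of_pow_eq_one (by rw [sq]; exact e)
    rw [C.ord] at h5
    rcases (Nat.dvd_prime Nat.prime_two).1 h5 with h6 | h6
    · exact he.one_lt.ne h6.symm
    · exact h4 h6
  obtain ⟨ν, hν0, hν1, hν2⟩ := exists_nu h3
  obtain ⟨b, hb⟩ := FiniteField.norm_surjective K F ν
  obtain ⟨a, ha⟩ : ∃ a, a = -b := ⟨_, rfl⟩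
  have hτg : C.τ g ≠ 0 := by rwa [Ne, map_eq_zero_iff C.τ C.τ.injective]
  obtain ⟨w, hw⟩ : ∃ w, w = C.τ g / g := ⟨_, rfl⟩
  have hNw : Algebra.norm K w = 1 := by
    have h5 : w * g = C.τ g := by rw [hw]; field_simp
    have h6 := congrArg (Algebra.norm K) h5
    rw [map_mul, norm_alg] at h6
    exact mul_right_cancel₀ (Algebra.norm_ne_zero_iff.2 hg0) (h6.trans (one_mul _).symm)
  have hNa : Algebra.norm K (-a) ≠ 1 := by rw [ha, neg_neg, hb]; exact hν1
  have hNaw : Algebra.norm K (-(w * a)) ≠ 1 := by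
    rw [ha, mul_neg, neg_neg, map_mul, hNw, one_mul, hb]; exact hν1
  have ha0 : a ≠ 0 := by
    rw [ha, neg_ne_zero, ← Algebra.norm_ne_zero_iff (R := K), hb]
    exact hν0
  obtain ⟨x₁, x₁', hd1, hx1, hk1⟩ := C.exists_unit hNa
  obtain ⟨x₂, x₂', hd2, hx2, hk2⟩ := C.exists_unit hNaw
  refine ⟨fun i => if i = 0 then x₁ else x₂, fun i => ?_, fun f hf hfx => ?_⟩
  · show LinearMap.det ((if i = 0 then x₁ else x₂ : (R K V)ˣ) : R K V) = 1
    split_ifs
    · exact hd1
    · exact hd2
  have hK1 : Kp φ f x₁' := by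
    apply hk1
    have := hfx 0
    simp only [if_true] at this
    exact kp_of_mem hSE this
  have hK2 : Kp φ f x₂' := by
    apply hk2
    have := hfx 1
    simp only [show (1 : Fin 4) ≠ 0 from by decide, if_false] at this
    exact kp_of_mem hSE this
  obtain ⟨hf0, hfm⟩ := hS hf
  obtain ⟨ρ, hρ⟩ := exists_rho hf0 hfm (hSE f hf)
  have hy1 : Ty φ C.τ (φ a * C.T) := by
    have := (C.ty_phi a).mul C.ty
    rwa [one_mul] at this
  have hy2 : Ty φ C.τ (φ (w * a) * C.T) := by
    have := (C.ty_phi (w * a)).mul C.ty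
    rwa [one_mul] at this
  have hy12 : φ (w * a) * C.T = φ w * (φ a * C.T) := by rw [map_mul, mul_assoc]
  have hu1 : IsUnit (φ a * C.T) := (phi_unit ha0).mul C.unit
  by_cases hmul : ∀ X Y, f (X * Y) = f X * f Y
  · have hA1 := auto_cases hf0 hmul hρ hτ hy1 hx1 hK1
    have hA2 := auto_cases hf0 hmul hρ hτ hy2 hx2 hK2
    have key : f (φ a * C.T) = φ a * C.T → f (φ (w * a) * C.T) = φ (w * a) * C.T → f = 1 := by
      intro e1 e2
      have e3 : ρ w = w := by
        rw [hy12, hmul, hρ, e1] at e2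
        exact C.nontriv (hu1.mul_right_cancel e2)
      have e4 := rho_one hτ hg0 hg ρ (by rw [← hw]; exact e3)
      refine C.eq_one h hf0 hmul (fun c => by rw [hρ, e4]) ?_
      rw [hmul, hρ, e4] at e1
      exact (phi_unit ha0).mul_left_cancel e1
    by_cases he2 : finrank K F = 2
    · have h4 := (h2 (h ▸ he2)).2
      have hT2 : C.T * C.T = 1 := by
        have := C.Te
        rw [he2, sq] at this
        exact this
      have hττ1 : ∀ c, C.τ (C.τ c) = c := by
        intro c
        have h5 : C.τ ^ 2 = 1 := by rw [← he2, ← C.ord]; exact pow_orderOf_eq_one _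
        have h6 := congrArg (fun s : F ≃ₐ[K] F => s c) h5
        exact h6
      obtain ⟨n, hn⟩ : ∃ n, n = a * C.τ a := ⟨_, rfl⟩
      have hsq : ∀ c, (φ c * C.T) * (φ c * C.T) = φ (c * C.τ c) := by
        intro c
        rw [mul_assoc, ← mul_assoc C.T, C.ty c, mul_assoc, hT2, mul_one, ← map_mul]
      have hsq1 : (φ a * C.T) * (φ a * C.T) = φ n := by rw [hsq, hn]
      have hsq2 : (φ (w * a) * C.T) * (φ (w * a) * C.T) = φ n := by
        rw [hsq, hn]
        congr 1
        rw [map_mul, hw, map_div₀, hττ1]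
        field_simp
      have hn1 : n = algebraMap K F ν := by
        rw [hn, ha, map_neg, neg_mul_neg, ← hb, FiniteField.algebraMap_norm_eq_pow, C.frob]
        have h5 : (Nat.card F - 1) / (Nat.card K - 1) = Nat.card K + 1 := by
          have h6 : Nat.card F = Nat.card K ^ 2 := by rw [← he2]; exact Module.natCard_eq_pow_finrank
          have h7 : Nat.card K ^ 2 - 1 = (Nat.card K + 1) * (Nat.card K - 1) := by
            have := Nat.sq_sub_sq (Nat.card K) 1
            rwa [one_pow] at this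
          rw [h6, h7]
          exact Nat.mul_div_cancel _ (by omega)
        rw [h5, pow_succ, mul_comm]
      have hn0 : n ≠ 0 := by
        rw [hn1, Ne, map_eq_zero_iff _ (algebraMap K F).injective]
        exact hν0
      have hnn : n ≠ n⁻¹ := by
        intro e
        have h5 : n * n = 1 := by
          nth_rewrite 2 [e]
          exact mul_inv_cancel₀ hn0
        apply hν2 h4
        apply (algebraMap K F).injective
        rw [map_mul, ← hn1, h5, map_one]
      have c1 : ∀ y : R K V, y * y = φ n → f y = y → ρ n = n := by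
        intro y e1 e2
        have e3 : φ (ρ n) = φ n := by rw [← hρ, ← e1, hmul, e2]
        exact C.nontriv e3
      have c2 : ∀ y : R K V, y * y = φ n → y * f y = 1 → f y = φ n⁻¹ * y ∧ ρ n = n⁻¹ := by
        intro y e1 e2
        have e3 : f y = φ n⁻¹ * y := by
          have e4 : φ n⁻¹ * (y * y) = 1 := by rw [e1, ← map_mul, inv_mul_cancel₀ hn0, map_one]
          calc f y = (φ n⁻¹ * (y * y)) * f y := by rw [e4, one_mul]
            _ = φ n⁻¹ * (y * (y * f y)) := by simp only [mul_assoc]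
            _ = _ := by rw [e2, mul_one]
        refine ⟨e3, ?_⟩
        have e5 : φ (ρ n) = φ n⁻¹ := by
          rw [← hρ, ← e1, hmul]
          have e6 : f y * f y = φ n⁻¹ * (y * f y) := by rw [← mul_assoc, ← e3]
          rw [e6, e2, mul_one]
        exact C.nontriv e5
      rcases hA1 with e1 | ⟨-, e1⟩ <;> rcases hA2 with e2 | ⟨-, e2⟩
      · exact key e1 e2
      · exact absurd ((c1 _ hsq1 e1).symm.trans (c2 _ hsq2 e2).2) hnn
      · exact absurd ((c1 _ hsq2 e2).symm.trans (c2 _ hsq1 e1).2) hnn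
      · exfalso
        obtain ⟨d1, d2⟩ := c2 _ hsq1 e1
        obtain ⟨d3, -⟩ := c2 _ hsq2 e2
        have d4 : ρ w = w := by
          rw [hy12, hmul, hρ, d1, ← mul_assoc, ← mul_assoc (φ n⁻¹), ← map_mul, ← map_mul] at d3
          have d5 := C.nontriv (hu1.mul_right_cancel d3)
          rw [mul_comm] at d5
          exact mul_left_cancel₀ (inv_ne_zero hn0) d5
        have d5 := rho_one hτ hg0 hg ρ (by rw [← hw]; exact d4) n
        exact hnn (d5.symm.trans d2)
    · rcases hA1 with e1 | ⟨e1, -⟩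
      · rcases hA2 with e2 | ⟨e2, -⟩
        · exact key e1 e2
        · exact absurd e2 (hττ he2)
      · exact absurd e1 (hττ he2)
  · exfalso
    rcases hfm with hfm | hfm
    · exact hmul hfm
    by_cases he2 : finrank K F = 2
    · exact hmul ((h2 (h ▸ he2)).1 hf).2
    · exact anti_no hf0 hfm hρ (hττ he2) hy1 hu1.ne_zero hx1 hK1

end Cy

end Cfsg.Agent.H245.FC
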