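import Cfsg.Agent.H245.FC.CyA
import Cfsg.Agent.H786.FC.Parts

/-!
# S5764, L-C3c: `|K| = 2`, and `StmtC3c` (helper245)
-/

set_option autoImplicit false
set_option linter.unusedSectionVars false

namespace Cfsg.Agent.H245.FC

open Module Cfsg.Agent.H198.FC Cfsg.Agent.H184.FC

universe u v w

variable {K : Type u} [Field K] [Finite K] {V : Type v} [AddCommGroup V] [Module K V] [Module.Finite K V]
  {F : Type w} [Field F] [Finite F] [Algebra K F]

/-- a unit of determinant 1 without a type -/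
theorem exists_notype (φ : F →ₐ[K] R K V) [Nontrivial V] (h : finrank K F = finrank K V) (h3 : 3 ≤ finrank K V)
    {g : F} (hg : ∀ a : F, a = 0 ∨ ∃ k : ℕ, a = g ^ k) :
    ∃ x : (R K V)ˣ, LinearMap.det (x : R K V) = 1 ∧ ∀ σ : F ≃ₐ[K] F, ¬ Ty φ σ (x : R K V) := by
  classical
  obtain ⟨v, hv⟩ := exists_ne (0 : V)
  have hinj : Function.Injective φ := (φ : F →+* R K V).injective
  have hphi : ∀ c : F, φ c v = 0 → c = 0 := by
    intro c hc
    by_contra hc0
    apply hv
    have h1 : φ c⁻¹ (φ c v) = v := by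
      rw [← Module.End.mul_apply, ← map_mul, inv_mul_cancel₀ hc0, map_one]; rfl
    rw [← h1, hc, map_zero]
  let W : Submodule K V := Submodule.span K {v, φ g v}
  have hW : W < ⊤ := by
    rw [lt_top_iff_ne_top]
    intro e
    have h1 : finrank K W ≤ 2 := by
      refine (finrank_span_le_card _).trans ?_
      rw [Set.toFinset_insert, Set.toFinset_singleton]
      exact Finset.card_le_two
    rw [e, finrank_top] at h1
    omega
  obtain ⟨ℓ, hℓ, hWℓ⟩ := Submodule.exists_le_ker_of_lt_top W hW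
  have hv0 : ℓ v = 0 := LinearMap.mem_ker.1 (hWℓ (Submodule.subset_span (by simp)))
  have hgv0 : ℓ (φ g v) = 0 := LinearMap.mem_ker.1 (hWℓ (Submodule.subset_span (by simp)))
  let t : R K V := ℓ.smulRight v
  have ht : ∀ u, t u = ℓ u • v := fun u => rfl
  have htt : t * t = 0 := by
    ext u
    rw [Module.End.mul_apply, ht, ht, map_smul, hv0, smul_zero, zero_smul]; rfl
  have hn : IsNilpotent t := ⟨2, by rw [sq, htt]⟩
  refine ⟨un hn, by rw [coe_un]; exact H184.FC.det_one_add hn, fun σ hσ => ?_⟩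
  rw [coe_un] at hσ
  have hx : ∀ u, ((1 : R K V) + t) u = u + ℓ u • v := fun u => rfl
  have h1 : ∀ a, φ a v + ℓ (φ a v) • v = φ (σ a) v := by
    intro a
    have h2 := congrArg (fun X : R K V => X v) (hσ a)
    simp only [Module.End.mul_apply, hx] at h2
    rw [hv0, zero_smul, add_zero] at h2
    exact h2
  have h2 : σ g = g := by
    have h4 := h1 g
    rw [hgv0, zero_smul, add_zero] at h4
    have h5 : φ (σ g - g) v = 0 := by rw [map_sub, LinearMap.sub_apply, ← h4, sub_self]
    exact sub_eq_zero.1 (hphi _ h5)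
  have h3 : ∀ a, σ a = a := by
    intro a
    rcases hg a with rfl | ⟨k, rfl⟩
    · exact map_zero σ
    · rw [map_pow, h2]
  have h4 : ∀ a, ℓ (φ a v) = 0 := by
    intro a
    have h5 := h1 a
    rw [h3, add_eq_left, smul_eq_zero] at h5
    exact h5.resolve_right hv
  apply hℓ
  ext u
  let L : F →ₗ[K] V := (LinearMap.applyₗ v).comp φ.toLinearMap
  have hL : ∀ a, L a = φ a v := fun _ => rfl
  have hLi : Function.Injective L := by
    rw [← LinearMap.ker_eq_bot, LinearMap.ker_eq_bot']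
    exact fun c hc => hphi c hc
  obtain ⟨a, ha⟩ := (LinearMap.injective_iff_surjective_of_finrank_eq_finrank h).1 hLi u
  rw [← ha, hL, h4]; rfl

namespace Cy

variable {φ : F →ₐ[K] R K V} (C : Cy φ)
include C

theorem ty_npow {σ : F ≃ₐ[K] F} {X : R K V} (h : Ty φ σ X) (n : ℕ) : Ty φ (σ ^ n) (X ^ n) := by
  induction n with
  | zero => rw [pow_zero, pow_zero]; exact ty_one
  | succ n ih => rw [pow_succ, pow_succ]; exact ih.mul h

/-- (G1) -/
theorem z_one (he : (finrank K F).Prime) (h2 : Nat.card K = 2) {x : (R K V)ˣ}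
    (hx : ∀ σ : F ≃ₐ[K] F, ¬ Ty φ σ (x : R K V)) {z : F} (hz : z ≠ 0) {σ : F ≃ₐ[K] F}
    (h : Ty φ σ ((x : R K V) * φ z * ((x⁻¹ : (R K V)ˣ) : R K V))) : z = 1 := by
  classical
  have := Fintype.ofFinite K
  have := Fintype.ofFinite F
  let ψ : F →ₐ[K] R K V :=
    { toFun := fun a => (x : R K V) * φ a * ((x⁻¹ : (R K V)ˣ) : R K V)
      map_one' := by simp
      map_mul' := fun a b => by simp [mul_assoc]
      map_zero' := by simp
      map_add' := fun a b => by simp [mul_add, add_mul]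
      commutes' := fun k => by
        rw [AlgHom.commutes, ← Algebra.commutes, mul_assoc, Units.mul_inv, mul_one] }
  have hψ : ∀ a, ψ a = (x : R K V) * φ a * ((x⁻¹ : (R K V)ˣ) : R K V) := fun _ => rfl
  -- the `e`-th power is in `K`
  have h3 := C.ty_npow h (finrank K F)
  have h4 : σ ^ finrank K F = 1 := by
    rw [← C.gal]
    exact pow_card_eq_one'
  rw [h4, ← hψ, ← map_pow] at h3
  obtain ⟨c, hc⟩ := C.cent _ h3
  have hA : z ^ finrank K F ∈ (φ.range).comap ψ := by
    rw [Subalgebra.mem_comap, hc]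
    exact ⟨c, rfl⟩
  have hze : z ^ finrank K F = 1 := by
    rcases (Subalgebra.isSimpleOrder_of_finrank_prime K F he).eq_bot_or_eq_top ((φ.range).comap ψ) with h5 | h5
    · rw [h5, Algebra.mem_bot] at hA
      obtain ⟨k, hk⟩ := hA
      have hk0 : k ≠ 0 := by
        rintro rfl
        rw [map_zero] at hk
        exact pow_ne_zero _ hz hk.symm
      have hk1 : k = 1 := by
        have h6 := FiniteField.pow_card_sub_one_eq_one k hk0
        rw [← Nat.card_eq_fintype_card, h2] at h6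
        simpa using h6
      rw [← hk, hk1, map_one]
    · exfalso
      obtain ⟨σ', h6⟩ := exists_ty (φ := φ) x.isUnit (fun b => by
        have h7 : b ∈ (φ.range).comap ψ := by rw [h5]; exact Algebra.mem_top
        rw [Subalgebra.mem_comap] at h7
        obtain ⟨c, hc⟩ := h7
        refine ⟨c, ?_⟩
        change φ c = ψ b at hc
        rw [hc, hψ, mul_assoc, Units.inv_mul, mul_one])
      exact hx σ' h6
  -- Fermat
  have h5 : z ^ (2 ^ finrank K F) = z := by
    have h6 := FiniteField.pow_card z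
    rwa [Module.card_eq_pow_finrank (K := K) (V := F), ← Nat.card_eq_fintype_card (α := K), h2] at h6
  have h6 : ∃ k, 2 ^ finrank K F = finrank K F * k + 2 := by
    have := Fact.mk he
    have h7 : ((2 ^ finrank K F : ℕ) : ZMod (finrank K F)) = ((2 : ℕ) : ZMod (finrank K F)) := by
      push_cast
      exact ZMod.pow_card _
    rw [ZMod.natCast_eq_natCast_iff] at h7
    have h8 : 2 ≤ 2 ^ finrank K F := by
      calc 2 = 2 ^ 1 := rfl
        _ ≤ _ := Nat.pow_le_pow_right (by norm_num) he.one_lt.le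
    obtain ⟨k, hk⟩ := (Nat.modEq_iff_dvd' h8).1 h7.symm
    exact ⟨k, by omega⟩
  obtain ⟨k, hk⟩ := h6
  rw [hk, pow_add, pow_mul, hze, one_pow, one_mul, sq] at h5
  exact mul_left_cancel₀ hz (h5.trans (mul_one z).symm)

/-- the quotient of two typed elements -/
theorem ty_quot {σ σ' : F ≃ₐ[K] F} {m n : R K V} (hm : IsUnit m) (h : Ty φ σ m) (h' : Ty φ σ' (n * m)) :
    Ty φ (σ' * σ⁻¹) n := by
  intro b
  have h1 := h (σ⁻¹ b)
  have h2 := h' (σ⁻¹ b)
  have h3 : σ (σ⁻¹ b) = b := by rw [← AlgEquiv.mul_apply, mul_inv_cancel]; rfl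
  rw [h3] at h1
  rw [mul_assoc, h1, ← mul_assoc, ← mul_assoc] at h2
  exact hm.mul_right_cancel h2

theorem five_two [Nontrivial V] (h : finrank K F = finrank K V) (he : (finrank K F).Prime)
    (S : Subgroup (Equiv.Perm (R K V))) (hS : S ≤ RA K V) (h3 : 3 ≤ finrank K V) (h2 : Nat.card K = 2)
    (hSE : ∀ f ∈ S, ∀ a : F, ∃ b : F, f (φ a) = φ b) : Five S := by
  classical
  have := Fintype.ofFinite K
  obtain ⟨g, hg0, hg⟩ := exists_gen_field F
  have hτ : C.τ ≠ 1 := by
    intro e
    have h4 := C.ord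
    rw [e, orderOf_one] at h4
    exact he.one_lt.ne h4
  have hττ : C.τ * C.τ ≠ 1 := by
    intro e
    have h5 : orderOf C.τ ∣ 2 := orderOf_dvd_of_pow_eq_one (by rw [sq]; exact e)
    rw [C.ord] at h5
    have := Nat.le_of_dvd (by norm_num) h5
    omega
  have hτ2 : ∀ a, C.τ a = a * a := fun a => by rw [C.frob, h2, sq]
  have h20 : (2 : F) = 0 := by
    have h4 : ((Nat.card K : ℕ) : K) = 0 := by rw [Nat.card_eq_fintype_card]; exact FiniteField.cast_card_eq_zero K
    rw [h2] at h4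
    have h5 := congrArg (algebraMap K F) h4
    rw [map_natCast, map_zero] at h5
    exact_mod_cast h5
  have hdet : ∀ x : (R K V)ˣ, LinearMap.det (x : R K V) = 1 := by
    intro x
    have h4 : LinearMap.det (x : R K V) ≠ 0 := (x.isUnit.map LinearMap.det).ne_zero
    have h6 := FiniteField.pow_card_sub_one_eq_one _ h4
    rw [← Nat.card_eq_fintype_card, h2] at h6
    simpa using h6
  obtain ⟨x, -, hx⟩ := exists_notype φ h h3 hg
  obtain ⟨U, hU⟩ := phi_unit (φ := φ) hg0
  have hUi : ((U⁻¹ : (R K V)ˣ) : R K V) = φ g⁻¹ := by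
    rw [← Units.mul_right_inj U, Units.mul_inv, hU, ← map_mul, mul_inv_cancel₀ hg0, map_one]
  refine ⟨fun i => if i = 0 then x else x * U, fun i => hdet _, fun f hf hfx => ?_⟩
  have hK1 : Kp φ f x := by
    have := hfx 0
    simp only [if_true] at this
    exact kp_of_mem hSE this
  have hK2 : Kp φ f (x * U) := by
    have := hfx 1
    simp only [show (1 : Fin 4) ≠ 0 from by decide, if_false] at this
    exact kp_of_mem hSE this
  obtain ⟨hf0, hfm⟩ := hS hf
  obtain ⟨ρ, hρ⟩ := exists_rho hf0 hfm (hSE f hf)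
  have hρg0 : ρ g ≠ 0 := by rwa [Ne, map_eq_zero_iff ρ ρ.injective]
  rcases hfm with hmul | hmul
  · have hf1 := f_one (Or.inl hmul)
    obtain ⟨σ, hσ⟩ := kp_auto hmul hρ hK1
    obtain ⟨σ', hσ'⟩ := kp_auto hmul hρ hK2
    have hmu : IsUnit ((x : R K V) * f ((x⁻¹ : (R K V)ˣ) : R K V)) := by
      refine x.isUnit.mul (IsUnit.of_mul_eq_one (f x) ?_)
      rw [← hmul, Units.inv_mul, hf1]
    have e1 : ((x * U : (R K V)ˣ) : R K V) * f (((x * U)⁻¹ : (R K V)ˣ) : R K V) =
        ((x : R K V) * φ (g * (ρ g)⁻¹) * ((x⁻¹ : (R K V)ˣ) : R K V)) *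
          ((x : R K V) * f ((x⁻¹ : (R K V)ˣ) : R K V)) := by
      rw [mul_inv_rev, Units.val_mul, Units.val_mul, hUi, hmul, hρ, map_inv₀, hU, map_mul]
      simp only [mul_assoc, Units.inv_mul_cancel_left]
    rw [e1] at hσ'
    have e2 := C.z_one he h2 hx (mul_ne_zero hg0 (inv_ne_zero hρg0)) (C.ty_quot hmu hσ hσ')
    have e3 : ρ g = g := by
      field_simp at e2
      exact e2.symm
    have e4 : ∀ a, ρ a = a := by
      intro a
      rcases hg a with rfl | ⟨k, rfl⟩
      · exact map_zero ρ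
      · rw [map_pow, e3]
    have hφ : ∀ a, f (φ a) = φ a := fun a => by rw [hρ, e4]
    -- `f(T) = φ(c) T`
    obtain ⟨T, hT⟩ := C.unit
    have e5 := ty_auto hmul hρ C.ty
    obtain ⟨c, hc⟩ := C.cent (f C.T * ((T⁻¹ : (R K V)ˣ) : R K V)) (fun a => by
      have e6 : Ty φ (C.τ * C.τ⁻¹) (f C.T * ((T⁻¹ : (R K V)ˣ) : R K V)) := by
        refine C.ty_quot C.unit C.ty ?_
        rw [← hT, mul_assoc, Units.inv_mul, mul_one, hT]
        exact e5
      rw [mul_inv_cancel] at e6
      exact e6 a)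
    have hfT : f C.T = φ c * C.T := by
      rw [← hc, ← hT, mul_assoc, Units.inv_mul, mul_one]
    have hc0 : c ≠ 0 := by
      rintro rfl
      rw [map_zero, zero_mul] at hfT
      have e6 : f 0 = 0 := by
        have := hf0 0 0
        rw [add_zero] at this
        exact left_eq_add.1 this
      exact C.unit.ne_zero (f.injective (hfT.trans e6.symm))
    obtain ⟨Z, hZ⟩ := phi_unit (φ := φ) (inv_ne_zero hc0)
    have hZi : ((Z⁻¹ : (R K V)ˣ) : R K V) = φ c := by
      rw [← Units.mul_right_inj Z, Units.mul_inv, hZ, ← map_mul, inv_mul_cancel₀ hc0, map_one]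
    have hfm' : f ∈ RP K V := ⟨hf0, hmul⟩
    have hf' : (cj K V Z)⁻¹ * f ∈ RP K V := (RP K V).mul_mem ((RP K V).inv_mem (cj_mem_RP Z)) hfm'
    have hap : ∀ X, ((cj K V Z)⁻¹ * f) X = φ c * f X * φ c⁻¹ := by
      intro X
      rw [← map_inv]
      change cj K V Z⁻¹ (f X) = _
      rw [cj_apply, inv_inv, hZi, hZ]
    have e7 : (cj K V Z)⁻¹ * f = 1 := by
      refine C.eq_one h hf'.1 hf'.2 (fun a => ?_) ?_
      · rw [hap, hφ, ← map_mul, ← map_mul]
        congr 1
        field_simp
      · rw [hap, hfT, mul_assoc, mul_assoc, C.ty, hτ2, ← mul_assoc, ← mul_assoc, ← map_mul, ← map_mul]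
        have e8 : c * c * (c⁻¹ * c⁻¹) = 1 := by field_simp
        rw [e8, map_one, one_mul]
    have e8 : f = cj K V Z := by
      rw [inv_mul_eq_one] at e7
      exact e7.symm
    -- `x Z x⁻¹` normalizes `φ(F)`
    have e9 : ∃ σ : F ≃ₐ[K] F, Ty φ σ ((x : R K V) * φ c⁻¹ * ((x⁻¹ : (R K V)ˣ) : R K V)) := by
      refine exists_ty (x.isUnit.mul (phi_unit (inv_ne_zero hc0)) |>.mul x⁻¹.isUnit) fun b => ?_
      obtain ⟨b', hb'⟩ := hK1 b
      refine ⟨b', ?_⟩
      rw [e8, cj_apply, hZ, hZi] at hb'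
      have e10 := congrArg (fun X : R K V => (x : R K V) * X * φ c⁻¹ * ((x⁻¹ : (R K V)ˣ) : R K V)) hb'
      have e11 : φ c * φ c⁻¹ = 1 := by rw [← map_mul, mul_inv_cancel₀ hc0, map_one]
      simp only [mul_assoc, Units.mul_inv_cancel_left] at e10
      rw [← mul_assoc (φ c), e11, one_mul, Units.mul_inv, mul_one] at e10
      simp only [mul_assoc]
      exact e10
    obtain ⟨σ'', e10⟩ := e9
    have e11 := C.z_one he h2 hx (inv_ne_zero hc0) e10
    have e12 : Z = 1 := by
      apply Units.ext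
      rw [hZ, e11, map_one]; rfl
    rw [e8, e12, map_one]
  · exfalso
    have hf1 := f_one (Or.inr hmul)
    obtain ⟨σ, hσ⟩ := kp_anti hmul hρ hK1
    obtain ⟨σ', hσ'⟩ := kp_anti hmul hρ hK2
    have hmu : IsUnit ((x : R K V) * f (x : R K V)) := by
      refine x.isUnit.mul (IsUnit.of_mul_eq_one (f ((x⁻¹ : (R K V)ˣ) : R K V)) ?_)
      rw [← hmul, Units.inv_mul, hf1]
    have e1 : ((x * U : (R K V)ˣ) : R K V) * f ((x * U : (R K V)ˣ) : R K V) =
        ((x : R K V) * φ (g * ρ g) * ((x⁻¹ : (R K V)ˣ) : R K V)) * ((x : R K V) * f (x : R K V)) := by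
      rw [Units.val_mul, hmul, hU, hρ, map_mul]
      simp only [mul_assoc, Units.inv_mul_cancel_left]
    rw [e1] at hσ'
    have e2 := C.z_one he h2 hx (mul_ne_zero hg0 hρg0) (C.ty_quot hmu hσ hσ')
    have e3 : ∀ a, a ≠ 0 → a * ρ a = 1 := by
      intro a ha
      rcases hg a with h0 | ⟨k, rfl⟩
      · exact absurd h0 ha
      · rw [map_pow, ← mul_pow, e2, one_pow]
    have hg1 : 1 + g ≠ 0 := by
      intro e
      have e4 : g = 1 := by linear_combination e - h20
      apply hτ
      ext a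
      rcases hg a with rfl | ⟨k, rfl⟩
      · simp
      · rw [e4, one_pow, map_one]; rfl
    have e4 := e3 _ hg1
    rw [map_add, map_one] at e4
    have e5 : g * g + g + 1 = 0 := by
      have e6 : g * ((1 + g) * (1 + ρ g)) = g := by rw [e4, mul_one]
      have e7 : g * ((1 + g) * (1 + ρ g)) = g + g * g + g * ρ g + g * (g * ρ g) := by ring
      rw [e7, e2] at e6
      linear_combination e6
    have e6 : g * g * g = 1 := by linear_combination (g - 1) * e5
    have e7 : (C.τ * C.τ) g = g := by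
      rw [AlgEquiv.mul_apply, hτ2, hτ2]
      linear_combination g * e6
    apply hττ
    ext a
    rcases hg a with rfl | ⟨k, rfl⟩
    · simp
    · rw [map_pow, e7]; rfl

end Cy

theorem five_cyc (φ : F →ₐ[K] R K V) (h : finrank K V = finrank K F) (he : (finrank K F).Prime)
    (S : Subgroup (Equiv.Perm (R K V))) (hS : S ≤ RA K V) (h2 : finrank K V = 2 → S ≤ RP K V ∧ 4 ≤ Nat.card K)
    (hSE : ∀ f ∈ S, ∀ a : F, ∃ b : F, f (φ a) = φ b) : Five S := by
  have := Fintype.ofFinite K
  obtain ⟨C⟩ := exists_cy φ h.symm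
  have hV : Nontrivial V := by
    apply nontrivial_of_finrank_pos (R := K)
    rw [h]
    exact he.pos
  have hK : 2 ≤ Nat.card K := by
    rw [Nat.card_eq_fintype_card]
    exact Fintype.one_lt_card
  rcases Nat.lt_or_ge 2 (Nat.card K) with h3 | h3
  · exact C.five_big h.symm he S hS h2 h3 hSE
  · have h4 : Nat.card K = 2 := le_antisymm h3 hK
    have h5 : finrank K V ≠ 2 := by
      intro e
      have := (h2 e).2
      omega
    have h6 : 3 ≤ finrank K V := by
      have := he.two_le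
      omega
    exact C.five_two h.symm he S hS h6 h4 hSE

/-- **L-C3c** (no solvability needed) -/
theorem stmtC3c : Cfsg.Agent.H786.FC.StmtC3c.{u, v} := by
  intro K _ _ V _ _ _ S hS h2 _ E hE hEp hES h
  have : Finite V := Module.finite_of_finite K
  have : Finite (R K V) := Module.finite_of_finite K
  have : Finite E := inferInstance
  exact @five_cyc K _ _ V _ _ _ E hE.toField _ E.algebra E.val h hEp S hS h2
    (fun f hf a => ⟨⟨f a, hES f hf a a.2⟩, rfl⟩)

end Cfsg.Agent.H245.FC
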