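import Cfsg.Agent.H184.FC.Types

/-!
# S5764, L-C3c: the model `R = End_K(F)` (helper245)

`Cy φ` : `V` is one-dimensional over the finite field `F` (embedded by `φ` in `R = End_K(V)`): the Frobenius `T`.
-/

set_option autoImplicit false
set_option linter.unusedSectionVars false

namespace Cfsg.Agent.H245.FC

open Module Cfsg.Agent.H198.FC Cfsg.Agent.H184.FC

universe u v w

variable {K : Type u} [Field K] [Finite K] {V : Type v} [AddCommGroup V] [Module K V] [Module.Finite K V]
  {F : Type w} [Field F] [Finite F] [Algebra K F]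

/-- the data of the model -/
structure Cy (φ : F →ₐ[K] R K V) where
  τ : F ≃ₐ[K] F
  frob : ∀ a, τ a = a ^ Nat.card K
  ord : orderOf τ = finrank K F
  gal : Nat.card (F ≃ₐ[K] F) = finrank K F
  T : R K V
  ty : Ty φ τ T
  unit : IsUnit T
  cent : ∀ X : R K V, (∀ a, X * φ a = φ a * X) → ∃ c, X = φ c
  det : ∀ b, LinearMap.det (φ b) = Algebra.norm K b
  inj : ∀ a, Algebra.norm K (-a) ≠ 1 → IsUnit (1 + φ a * T)
  Te : T ^ finrank K F = 1

theorem norm_alg (τ : F ≃ₐ[K] F) (a : F) : Algebra.norm K (τ a) = Algebra.norm K a := by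
  have h := Algebra.norm_eq_of_equiv_equiv (RingEquiv.refl K) (τ : F ≃+* F) (by ext x; simp) a
  exact h.symm

theorem exists_cy (φ : F →ₐ[K] R K V) (h : finrank K F = finrank K V) : Nonempty (Cy φ) := by
  classical
  have := Fintype.ofFinite K
  have := Fintype.ofFinite F
  let _ : Module F V := Module.compHom V (φ : F →+* R K V)
  have hsm : ∀ (a : F) (v : V), a • v = φ a v := fun _ _ => rfl
  have : IsScalarTower K F V := ⟨fun k a v => by
    rw [hsm, hsm, map_smul]; rfl⟩
  have : Module.Finite F V := Module.Finite.of_restrictScalars_finite K F V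
  have hF0 : 0 < finrank K F := finrank_pos
  have h5 : Module.finrank F V = 1 := by
    have h6 := Module.finrank_mul_finrank K F V
    rw [h] at h6
    rw [h] at hF0
    exact Nat.eq_of_mul_eq_mul_left hF0 (h6.trans (mul_one _).symm)
  let Ψ : V ≃ₗ[F] F := LinearEquiv.ofFinrankEq V F (by rw [h5, finrank_self])
  let Θ : Module.End K F ≃ₐ[K] R K V := ((Ψ.restrictScalars K).symm).conjAlgEquiv K
  have hΘ : ∀ a : F, Θ (Algebra.lmul K F a) = φ a := by
    intro a
    apply LinearMap.ext
    intro v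
    show Ψ.symm (a * Ψ v) = φ a v
    rw [← smul_eq_mul, map_smul, LinearEquiv.symm_apply_apply]
    rfl
  let τ : F ≃ₐ[K] F := FiniteField.frobeniusAlgEquivOfAlgebraic K F
  have hτ : ∀ a, τ a = a ^ Fintype.card K := fun a => rfl
  have hord : orderOf τ = finrank K F := FiniteField.orderOf_frobeniusAlgEquivOfAlgebraic K F
  have hiter : ∀ n : ℕ, (τ.toLinearMap : Module.End K F) ^ n = (τ ^ n).toLinearMap := by
    intro n
    induction n with
    | zero => rfl
    | succ n ih => rw [pow_succ, ih, pow_succ]; rfl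
  refine ⟨⟨τ, fun a => by rw [hτ, Nat.card_eq_fintype_card], hord, ?_, Θ τ.toLinearMap, ?_, ?_, ?_, ?_, ?_, ?_⟩⟩
  · have h1 := Nat.card_congr (Equiv.ofBijective _ (FiniteField.bijective_frobeniusAlgEquivOfAlgebraic_pow K F))
    rw [← h1, Nat.card_eq_fintype_card, Fintype.card_fin]
  · intro a
    rw [← hΘ, ← hΘ, ← map_mul, ← map_mul]
    congr 1
    apply LinearMap.ext
    intro v
    show τ (a * v) = τ a * τ v
    rw [map_mul]
  · refine IsUnit.map Θ ?_
    refine IsUnit.of_mul_eq_one (τ.symm.toLinearMap : Module.End K F) ?_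
    apply LinearMap.ext
    intro v
    show τ (τ.symm v) = v
    simp
  · intro X hX
    refine ⟨Θ.symm X 1, ?_⟩
    rw [← hΘ]
    apply Θ.symm.injective
    rw [AlgEquiv.symm_apply_apply]
    apply LinearMap.ext
    intro v
    have h1 : Θ.symm X * Algebra.lmul K F v = Algebra.lmul K F v * Θ.symm X := by
      apply Θ.injective
      rw [map_mul, map_mul, hΘ, AlgEquiv.apply_symm_apply, hX]
    have h2 := congrArg (fun Y : Module.End K F => Y 1) h1
    change Θ.symm X (v * 1) = v * Θ.symm X 1 at h2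
    rw [mul_one] at h2
    show Θ.symm X v = Θ.symm X 1 * v
    rw [h2, mul_comm]
  · intro b
    rw [← hΘ, Algebra.norm_apply]
    exact LinearMap.det_conj (Algebra.lmul K F b) (Ψ.restrictScalars K).symm
  · intro a ha
    have h1 : (1 : R K V) + φ a * Θ τ.toLinearMap = Θ (1 + Algebra.lmul K F a * τ.toLinearMap) := by
      rw [map_add, map_one, map_mul, hΘ]
    rw [h1]
    refine IsUnit.map Θ ?_
    rw [LinearMap.isUnit_iff_ker_eq_bot, LinearMap.ker_eq_bot']
    intro v hv
    have h2 : v + a * τ v = 0 := hv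
    by_contra hv0
    apply ha
    have h3 : -a * τ v = v := by
      rw [neg_mul]
      exact (eq_neg_of_add_eq_zero_left h2).symm
    have h4 := congrArg (Algebra.norm K) h3
    rw [map_mul, norm_alg] at h4
    exact mul_right_cancel₀ (Algebra.norm_ne_zero_iff.2 hv0) (h4.trans (one_mul _).symm)
  · rw [← map_pow, hiter, ← hord, pow_orderOf_eq_one]
    exact map_one Θ

namespace Cy

variable {φ : F →ₐ[K] R K V} (C : Cy φ)
include C

theorem ty_pow (i : ℕ) : Ty φ (C.τ ^ i) (C.T ^ i) := by
  induction i with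
  | zero => rw [pow_zero, pow_zero]; exact ty_one
  | succ n ih => rw [pow_succ, pow_succ]; exact ih.mul C.ty

theorem ty_phi (b : F) : Ty φ 1 (φ b) := fun a => by
  rw [← map_mul, ← map_mul, mul_comm]; rfl

theorem nontriv [Nontrivial V] : Function.Injective φ := (φ : F →+* R K V).injective

theorem span [Nontrivial V] (h : finrank K F = finrank K V) (X : R K V) :
    ∃ c : Fin (finrank K F) → F, X = ∑ i, φ (c i) * C.T ^ (i : ℕ) := by
  classical
  let L : (Fin (finrank K F) → F) →ₗ[K] R K V :=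
    { toFun := fun c => ∑ i, φ (c i) * C.T ^ (i : ℕ)
      map_add' := fun c d => by simp [add_mul, Finset.sum_add_distrib]
      map_smul' := fun a c => by simp [Finset.smul_sum] }
  have hinj : Function.Injective L := by
    rw [← LinearMap.ker_eq_bot, LinearMap.ker_eq_bot']
    intro c hc
    have hc' : ∑ i, φ (c i) * C.T ^ (i : ℕ) = 0 := hc
    funext i
    have h1 := Ty.indep (φ := φ) (g := fun i : Fin (finrank K F) => 1 * C.τ ^ (i : ℕ)) (fun i j hij => by
      have h2 : C.τ ^ (i : ℕ) = C.τ ^ (j : ℕ) := by simpa using hij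
      apply Fin.ext
      exact pow_injOn_Iio_orderOf (by rw [Set.mem_Iio, C.ord]; exact i.2) (by rw [Set.mem_Iio, C.ord]; exact j.2) h2)
      (z := fun i => φ (c i) * C.T ^ (i : ℕ)) (fun i => (C.ty_phi (c i)).mul (C.ty_pow i)) hc' i
    have h3 : φ (c i) = 0 := by
      have h4 : IsUnit (C.T ^ (i : ℕ)) := C.unit.pow _
      exact (h4.mul_left_eq_zero).1 h1
    exact C.nontriv (h3.trans (map_zero φ).symm)
  have hfin : finrank K (Fin (finrank K F) → F) = finrank K (R K V) := by
    rw [Module.finrank_pi_fintype, Module.finrank_linearMap, Finset.sum_const, Finset.card_univ, Fintype.card_fin,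
      smul_eq_mul, h]
  obtain ⟨c, hc⟩ := (LinearMap.injective_iff_surjective_of_finrank_eq_finrank hfin).1 hinj X
  exact ⟨c, hc.symm⟩

/-- a ring automorphism fixing `φ(F)` and `T` is trivial -/
theorem eq_one [Nontrivial V] (h : finrank K F = finrank K V) {f : Equiv.Perm (R K V)}
    (hf0 : ∀ X Y, f (X + Y) = f X + f Y) (hf : ∀ X Y, f (X * Y) = f X * f Y) (h1 : ∀ a, f (φ a) = φ a)
    (h2 : f C.T = C.T) : f = 1 := by
  apply Equiv.ext
  intro X
  obtain ⟨c, rfl⟩ := C.span h X
  show f _ = _
  let f' : R K V →+ R K V := ⟨⟨f, by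
    have := hf0 0 0
    rw [add_zero] at this
    exact left_eq_add.1 this⟩, hf0⟩
  have h3 : f (∑ i, φ (c i) * C.T ^ (i : ℕ)) = f' (∑ i, φ (c i) * C.T ^ (i : ℕ)) := rfl
  rw [h3, map_sum]
  refine Finset.sum_congr rfl fun i _ => ?_
  show f (φ (c i) * C.T ^ (i : ℕ)) = _
  rw [hf, h1]
  congr 1
  have h4 : ∀ n : ℕ, f (C.T ^ n) = C.T ^ n := by
    intro n
    induction n with
    | zero => rw [pow_zero]; exact f_one (Or.inl hf)
    | succ n ih => rw [pow_succ, hf, ih, h2]
  exact h4 _

end Cy

end Cfsg.Agent.H245.FC
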