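import Mathlib

/-!
# S5764, L-C3b: the model `R = End_K(F × F)`, `F / K` quadratic (helper245)
-/

set_option autoImplicit false

namespace Cfsg.Agent.H245.FC

universe u v

/-- a quadratic extension of finite fields: the involution `τ` and a generator `γ` -/
structure Dat (K : Type u) (F : Type v) [Field K] [Field F] [Algebra K F] where
  τ : F ≃ₐ[K] F
  invol : ∀ a, τ (τ a) = a
  gal : ∀ φ : F →ₐ[K] F, (∀ a, φ a = a) ∨ (∀ a, φ a = τ a)
  comm : ∀ (σ : F →+* F) (a : F), σ (τ a) = τ (σ a)
  γ : F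
  gen : ∀ a : F, a = 0 ∨ ∃ k : ℕ, a = γ ^ k
  ne : τ γ ≠ γ

theorem exists_dat (K : Type u) (F : Type v) [Field K] [Finite K] [Field F] [Finite F] [Algebra K F]
    (h : Module.finrank K F = 2) : Nonempty (Dat K F) := by
  classical
  have := Fintype.ofFinite K
  have := Fintype.ofFinite F
  let τ : F ≃ₐ[K] F := FiniteField.frobeniusAlgEquivOfAlgebraic K F
  have hτ : ∀ a, τ a = a ^ Fintype.card K := fun a => rfl
  have hcard : Fintype.card F = Fintype.card K ^ 2 := by
    rw [Module.card_eq_pow_finrank (K := K) (V := F), h]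
  have hinv : ∀ a, τ (τ a) = a := by
    intro a
    rw [hτ, hτ, ← pow_mul, ← sq, ← hcard]
    exact FiniteField.pow_card a
  obtain ⟨g, hg⟩ := IsCyclic.exists_generator (α := Fˣ)
  have hgen : ∀ a : F, a = 0 ∨ ∃ k : ℕ, a = (g : F) ^ k := by
    intro a
    by_cases ha : a = 0
    · exact Or.inl ha
    right
    obtain ⟨k, hk⟩ := (mem_powers_iff_mem_zpowers (x := g)).2 (hg (Units.mk0 a ha))
    refine ⟨k, ?_⟩
    have := congrArg (fun u : Fˣ => (u : F)) hk
    simpa using this.symm
  have hne : τ (g : F) ≠ g := by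
    intro h1
    -- `τ` would be trivial
    have h2 : ∀ a, τ a = a := by
      intro a
      rcases hgen a with rfl | ⟨k, rfl⟩
      · exact map_zero τ
      · rw [map_pow, h1]
    have h3 : Fintype.card F ≤ Fintype.card K := by
      have h4 : (Polynomial.X ^ Fintype.card K - Polynomial.X : Polynomial F) ≠ 0 :=
        FiniteField.X_pow_card_sub_X_ne_zero F Fintype.one_lt_card
      have h5 : (Polynomial.X ^ Fintype.card K - Polynomial.X : Polynomial F).natDegree = Fintype.card K :=
        FiniteField.X_pow_card_sub_X_natDegree_eq F Fintype.one_lt_card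
      have h6 : (Finset.univ : Finset F) ⊆ (Polynomial.X ^ Fintype.card K - Polynomial.X : Polynomial F).roots.toFinset := by
        intro a _
        rw [Multiset.mem_toFinset, Polynomial.mem_roots h4, Polynomial.IsRoot.def]
        simp only [Polynomial.eval_sub, Polynomial.eval_pow, Polynomial.eval_X]
        rw [← hτ, h2, sub_self]
      calc Fintype.card F = (Finset.univ : Finset F).card := rfl
        _ ≤ _ := Finset.card_le_card h6
        _ ≤ _ := Multiset.toFinset_card_le _
        _ ≤ _ := Polynomial.card_roots' _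
        _ = _ := h5
    rw [hcard] at h3
    have h4 : 1 < Fintype.card K := Fintype.one_lt_card
    nlinarith
  have hgal : ∀ φ : F →ₐ[K] F, (∀ a, φ a = a) ∨ (∀ a, φ a = τ a) := by
    intro φ
    have hbij : Function.Bijective φ := Finite.injective_iff_bijective.1 φ.injective
    let φ' : F ≃ₐ[K] F := AlgEquiv.ofBijective φ hbij
    obtain ⟨i, hi⟩ := (FiniteField.bijective_frobeniusAlgEquivOfAlgebraic_pow K F).2 φ'
    have h1 : ∀ a, φ a = (τ ^ (i : ℕ)) a := fun a => (congrArg (fun ψ : F ≃ₐ[K] F => ψ a) hi).symm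
    have h2 : (i : ℕ) < 2 := lt_of_lt_of_eq i.2 h
    rcases Nat.lt_succ_iff_lt_or_eq.1 h2 with h3 | h3
    · left
      intro a
      rw [h1, show (i : ℕ) = 0 by omega, pow_zero]
      rfl
    · right
      intro a
      rw [h1, h3, pow_one]
  exact ⟨⟨τ, hinv, hgal, fun σ a => by rw [hτ, hτ, map_pow], g, hgen, hne⟩⟩

section

variable {K : Type u} {F : Type v} [Field K] [Field F] [Algebra K F]

/-- the scalars of `F` on `F × F` -/
def sc (K : Type u) {F : Type v} [Field K] [Field F] [Algebra K F] : F →ₐ[K] Module.End K (F × F) :=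
  Algebra.lsmul K K (F × F)

@[simp] theorem sc_apply (a : F) (v : F × F) : sc K a v = (a * v.1, a * v.2) := rfl

/-- diagonal idempotents -/
def e1 (K : Type u) (F : Type v) [Field K] [Field F] [Algebra K F] : Module.End K (F × F) where
  toFun v := (v.1, 0)
  map_add' v w := by simp
  map_smul' a v := by simp

def e2 (K : Type u) (F : Type v) [Field K] [Field F] [Algebra K F] : Module.End K (F × F) where
  toFun v := (0, v.2)
  map_add' v w := by simp
  map_smul' a v := by simp

@[simp] theorem e1_apply (v : F × F) : e1 K F v = (v.1, 0) := rfl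
@[simp] theorem e2_apply (v : F × F) : e2 K F v = (0, v.2) := rfl

namespace Dat

variable (D : Dat K F)

def y1 : Module.End K (F × F) where
  toFun v := (D.τ v.2, 0)
  map_add' v w := by simp
  map_smul' a v := by simp

def y2 : Module.End K (F × F) where
  toFun v := (0, D.γ * D.τ v.1)
  map_add' v w := by simp [mul_add]
  map_smul' a v := by simp

def y3 : Module.End K (F × F) where
  toFun v := (D.τ v.1 - D.τ v.2, D.τ v.1 - D.τ v.2)
  map_add' v w := by ext <;> simp <;> ring
  map_smul' a v := by ext <;> simp [smul_sub]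

def y4 : Module.End K (F × F) where
  toFun v := (D.τ D.γ * D.τ v.1 - D.τ v.2, D.γ * (D.τ D.γ * D.τ v.1 - D.τ v.2))
  map_add' v w := by ext <;> simp <;> ring
  map_smul' a v := by ext <;> simp [smul_sub, mul_sub]

@[simp] theorem y1_apply (v : F × F) : D.y1 v = (D.τ v.2, 0) := rfl
@[simp] theorem y2_apply (v : F × F) : D.y2 v = (0, D.γ * D.τ v.1) := rfl
@[simp] theorem y3_apply (v : F × F) : D.y3 v = (D.τ v.1 - D.τ v.2, D.τ v.1 - D.τ v.2) := rfl
@[simp] theorem y4_apply (v : F × F) :
    D.y4 v = (D.τ D.γ * D.τ v.1 - D.τ v.2, D.γ * (D.τ D.γ * D.τ v.1 - D.τ v.2)) := rfl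

theorem γ0 : D.γ ≠ 0 := fun h => D.ne (by rw [h, map_zero])

theorem τγ0 : D.τ D.γ ≠ 0 := fun h => D.γ0 (by rw [← D.invol D.γ, h, map_zero])

/-- `y` is `F`-semilinear -/
def SL (y : Module.End K (F × F)) : Prop := ∀ a : F, y * sc K a = sc K (D.τ a) * y

theorem sl1 : D.SL D.y1 := fun a => by ext v <;> simp
theorem sl2 : D.SL D.y2 := fun a => by ext v <;> simp [mul_left_comm]
theorem sl3 : D.SL D.y3 := fun a => by ext v <;> simp
theorem sl4 : D.SL D.y4 := fun a => by ext v <;> simp [mul_comm, mul_left_comm]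

theorem sq1 : D.y1 * D.y1 = 0 := by ext v <;> simp
theorem sq2 : D.y2 * D.y2 = 0 := by ext v <;> simp
theorem sq3 : D.y3 * D.y3 = 0 := by ext v <;> simp
theorem sq4 : D.y4 * D.y4 = 0 := by ext v <;> simp [D.invol, mul_comm]

end Dat

theorem sc_inj {a b : F} (h : sc K a = sc K b) : a = b := by
  have h1 := LinearMap.congr_fun h ((1 : F), (0 : F))
  simpa using h1

theorem sc_mul (a b : F) : sc K (a * b) = sc K a * sc K b := map_mul _ a b

theorem sc_add (a b : F) : sc K (a + b) = sc K a + sc K b := map_add _ a b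

theorem sc_mul_inj {a b : F} {m : Module.End K (F × F)} (hm : IsUnit m) (h : sc K a * m = sc K b * m) : a = b :=
  sc_inj (hm.mul_right_cancel h)

namespace Dat

variable (D : Dat K F)

/-- elements normalizing the scalars are linear or semilinear -/
theorem pure {m : Module.End K (F × F)} (hm : IsUnit m) (h : ∀ a : F, ∃ b : F, m * sc K a = sc K b * m) :
    (∀ a : F, m * sc K a = sc K a * m) ∨ ∀ a : F, m * sc K a = sc K (D.τ a) * m := by
  choose φ hφ using h
  let ψ : F →ₐ[K] F :=
    { toFun := φ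
      map_one' := by
        apply sc_mul_inj hm
        rw [← hφ, map_one, mul_one, one_mul]
      map_mul' := fun a b => by
        apply sc_mul_inj hm
        rw [← hφ, map_mul, map_mul, ← mul_assoc, hφ, mul_assoc, hφ, mul_assoc]
      map_zero' := by
        apply sc_mul_inj hm
        rw [← hφ, map_zero, mul_zero, zero_mul]
      map_add' := fun a b => by
        apply sc_mul_inj hm
        rw [← hφ, map_add, map_add, mul_add, hφ, hφ, add_mul]
      commutes' := fun k => by
        apply sc_mul_inj hm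
        rw [← hφ, AlgHom.commutes, Algebra.commutes] }
  rcases D.gal ψ with h1 | h1
  · left
    intro a
    rw [hφ]
    congr 2
    exact h1 a
  · right
    intro a
    rw [hφ]
    congr 2
    exact h1 a

/-- The key lemma: `(1 + y)(1 - z)` normalizes the scalars only for `z = y`. -/
theorem eq_of_norm {y z : Module.End K (F × F)} (hy : D.SL y) (hz : D.SL z) (hyy : y * y = 0)
    (hm : IsUnit ((1 + y) * (1 - z)))
    (h : ∀ a : F, ∃ b : F, (1 + y) * (1 - z) * sc K a = sc K b * ((1 + y) * (1 - z))) : z = y := by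
  -- decomposition of `m` in a linear part `1 - y z` and a semilinear part `y - z`
  have hyz : ∀ a, y * z * sc K a = sc K a * (y * z) := fun a => by
    rw [mul_assoc, hz a, ← mul_assoc, hy, D.invol, mul_assoc]
  have hm0 : (1 + y) * (1 - z) = (1 - y * z) + (y - z) := by
    rw [mul_sub, mul_one, add_mul, one_mul]
    abel
  have hne : D.γ - D.τ D.γ ≠ 0 := fun h0 => D.ne (sub_eq_zero.1 h0).symm
  rcases D.pure hm h with h1 | h1
  · have h2 := h1 D.γ
    rw [hm0] at h2
    have h3 : (sc K (D.γ - D.τ D.γ)) * (y - z) = 0 := by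
      have e1 : (1 - y * z + (y - z)) * sc K D.γ = sc K D.γ * (1 - y * z) + sc K (D.τ D.γ) * (y - z) := by
        rw [add_mul, sub_mul, one_mul, hyz, sub_mul, hy, hz, mul_sub, mul_sub, mul_one]
      rw [e1, mul_add] at h2
      rw [map_sub, sub_mul, sub_eq_zero]
      exact (add_left_cancel h2).symm
    have h4 : sc K (D.γ - D.τ D.γ)⁻¹ * (sc K (D.γ - D.τ D.γ) * (y - z)) = 0 := by rw [h3, mul_zero]
    rw [← mul_assoc, ← map_mul, inv_mul_cancel₀ hne, map_one, one_mul, sub_eq_zero] at h4
    exact h4.symm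
  · exfalso
    have h2 := h1 D.γ
    rw [hm0] at h2
    have h3 : (sc K (D.γ - D.τ D.γ)) * (1 - y * z) = 0 := by
      have e1 : (1 - y * z + (y - z)) * sc K D.γ = sc K D.γ * (1 - y * z) + sc K (D.τ D.γ) * (y - z) := by
        rw [add_mul, sub_mul, one_mul, hyz, sub_mul, hy, hz, mul_sub, mul_sub, mul_one]
      rw [e1, mul_add] at h2
      rw [map_sub, sub_mul, sub_eq_zero]
      exact add_right_cancel h2
    have h4 : sc K (D.γ - D.τ D.γ)⁻¹ * (sc K (D.γ - D.τ D.γ) * (1 - y * z)) = 0 := by rw [h3, mul_zero]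
    rw [← mul_assoc, ← map_mul, inv_mul_cancel₀ hne, map_one, one_mul, sub_eq_zero] at h4
    have h5 : y * (1 : Module.End K (F × F)) = 0 := by rw [h4, ← mul_assoc, hyy, zero_mul]
    rw [mul_one] at h5
    rw [h5, zero_mul] at h4
    exact one_ne_zero h4

/-! ### automorphisms and anti-automorphisms -/

theorem hom_id {σ : F →+* F} (h : σ D.γ = D.γ) (a : F) : σ a = a := by
  rcases D.gen a with rfl | ⟨k, rfl⟩
  · exact map_zero σ
  · rw [map_pow, h]

theorem hom_τ {σ : F →+* F} (h : σ D.γ = D.τ D.γ) (a : F) : σ a = D.τ a := by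
  rcases D.gen a with rfl | ⟨k, rfl⟩
  · rw [map_zero, map_zero]
  · rw [map_pow, map_pow, h]

/-- every `K`-linear map of `F` is `x ↦ a x + b τ(x)` -/
theorem exists_form [Finite K] [Finite F] (hf : Module.finrank K F = 2) (g : F →ₗ[K] F) :
    ∃ a b : F, ∀ x, g x = a * x + b * D.τ x := by
  have : Module.Finite K F := Module.Finite.of_finite
  let Λ : (F × F) →ₗ[K] (F →ₗ[K] F) :=
    { toFun := fun p => { toFun := fun x => p.1 * x + p.2 * D.τ x
                          map_add' := fun x y => by rw [map_add]; ring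
                          map_smul' := fun k x => by
                            rw [map_smul, RingHom.id_apply, smul_add, mul_smul_comm, mul_smul_comm] }
      map_add' := fun p q => by
        ext x
        show (p.1 + q.1) * x + (p.2 + q.2) * D.τ x = (p.1 * x + p.2 * D.τ x) + (q.1 * x + q.2 * D.τ x)
        ring
      map_smul' := fun k p => by
        ext x
        show (k • p.1) * x + (k • p.2) * D.τ x = k • (p.1 * x + p.2 * D.τ x)
        rw [smul_mul_assoc, smul_mul_assoc, smul_add] }
  have hinj : Function.Injective Λ := by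
    rw [← LinearMap.ker_eq_bot, LinearMap.ker_eq_bot']
    rintro ⟨a, b⟩ h0
    have h1 : a * 1 + b * D.τ 1 = 0 := LinearMap.congr_fun h0 1
    have h2 : a * D.γ + b * D.τ D.γ = 0 := LinearMap.congr_fun h0 D.γ
    rw [map_one, mul_one, mul_one] at h1
    have h3 : a = -b := eq_neg_of_add_eq_zero_left h1
    have h4 : b * (D.τ D.γ - D.γ) = 0 := by rw [h3] at h2; linear_combination h2
    have h5 : b = 0 := by
      rcases mul_eq_zero.1 h4 with h | h
      · exact h
      · exact absurd (sub_eq_zero.1 h) D.ne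
    rw [h5, neg_zero] at h3
    rw [h3, h5]
    rfl
  have hdim : Module.finrank K (F × F) = Module.finrank K (F →ₗ[K] F) := by
    rw [Module.finrank_prod, Module.finrank_linearMap, hf]
  obtain ⟨⟨a, b⟩, hab⟩ := (LinearMap.injective_iff_surjective_of_finrank_eq_finrank hdim).1 hinj g
  exact ⟨a, b, fun x => (LinearMap.congr_fun hab x).symm⟩

/-- A multiplicative additive map fixing the scalars and `y₁, y₂, y₃` is the identity. -/
theorem auto_eq [Finite K] [Finite F] (hf : Module.finrank K F = 2) {f : Module.End K (F × F) → Module.End K (F × F)}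
    (hadd : ∀ X Y, f (X + Y) = f X + f Y) (hmul : ∀ X Y, f (X * Y) = f X * f Y) {σ : F →+* F}
    (hσ : ∀ a, f (sc K a) = sc K (σ a)) (h1 : f D.y1 = D.y1) (h2 : f D.y2 = D.y2) (h3 : f D.y3 = D.y3)
    (X : Module.End K (F × F)) : f X = X := by
  have hneg : ∀ X, f (-X) = -f X := by
    intro X
    have h4 : f 0 = 0 := by
      have := hadd 0 0
      rw [add_zero] at this
      exact left_eq_add.1 this
    have h5 := hadd X (-X)
    rw [add_neg_cancel, h4] at h5
    exact (neg_eq_of_add_eq_zero_right h5.symm).symm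
  -- `σ = 1`
  have hσγ : σ D.γ = D.γ := by
    have h4 : D.y1 * D.y2 * (D.y1 * D.y2) = sc K (D.τ D.γ) * (D.y1 * D.y2) := by
      ext v <;> simp [D.invol]
    have h5 := congrArg f h4
    rw [hmul, hmul (sc K (D.τ D.γ)), hmul D.y1, h1, h2, hσ, h4] at h5
    have h6 := LinearMap.congr_fun h5 ((1 : F), (0 : F))
    have h7 : D.τ D.γ * D.τ D.γ = σ (D.τ D.γ) * D.τ D.γ := by simpa using congrArg Prod.fst h6
    have h8 := mul_right_cancel₀ D.τγ0 h7
    rw [D.comm] at h8
    exact (D.τ.injective h8).symm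
  have hs : ∀ a, f (sc K a) = sc K a := fun a => by rw [hσ, D.hom_id hσγ]
  have he1 : f (e1 K F) = e1 K F := by
    have h4 : e1 K F = sc K (D.τ D.γ)⁻¹ * (D.y1 * D.y2) := by
      ext v <;> simp [D.invol, D.τγ0]
    rw [h4, hmul, hs, hmul, h1, h2]
  have he2 : f (e2 K F) = e2 K F := by
    have h4 : e2 K F = sc K D.γ⁻¹ * (D.y2 * D.y1) := by
      ext v <;> simp [D.invol, D.γ0]
    rw [h4, hmul, hs, hmul, h1, h2]
  -- `T`
  obtain ⟨T, hT, hfT⟩ : ∃ T : Module.End K (F × F), (∀ v, T v = (D.τ v.1, D.τ v.2)) ∧ f T = T := by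
    refine ⟨e1 K F * D.y3 * e1 K F + -(e2 K F * D.y3 * e2 K F), fun v => ?_, ?_⟩
    · simp
    · rw [hadd, hneg, hmul, hmul, hmul, hmul, he1, he2, h3]
  obtain ⟨e12, he12, hf12⟩ : ∃ e : Module.End K (F × F), (∀ v, e v = (v.2, 0)) ∧ f e = e := by
    refine ⟨D.y1 * T, fun v => ?_, by rw [hmul, h1, hfT]⟩
    rw [Module.End.mul_apply, hT, y1_apply, D.invol]
  obtain ⟨e21, he21, hf21⟩ : ∃ e : Module.End K (F × F), (∀ v, e v = (0, v.1)) ∧ f e = e := by
    refine ⟨sc K D.γ⁻¹ * (D.y2 * T), fun v => ?_, by rw [hmul, hmul, h2, hfT, hs]⟩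
    rw [Module.End.mul_apply, Module.End.mul_apply, hT, y2_apply, D.invol, sc_apply, mul_zero,
      inv_mul_cancel_left₀ D.γ0]
  obtain ⟨a11, b11, h11⟩ := D.exists_form hf ((LinearMap.fst K F F) ∘ₗ X ∘ₗ (LinearMap.inl K F F))
  obtain ⟨a12, b12, h12⟩ := D.exists_form hf ((LinearMap.fst K F F) ∘ₗ X ∘ₗ (LinearMap.inr K F F))
  obtain ⟨a21, b21, h21⟩ := D.exists_form hf ((LinearMap.snd K F F) ∘ₗ X ∘ₗ (LinearMap.inl K F F))
  obtain ⟨a22, b22, h22⟩ := D.exists_form hf ((LinearMap.snd K F F) ∘ₗ X ∘ₗ (LinearMap.inr K F F))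
  have hX : X = sc K a11 * e1 K F + sc K b11 * (e1 K F * T) + (sc K a12 * e12 + sc K b12 * (e12 * T)) +
      (sc K a21 * e21 + sc K b21 * (e21 * T)) + (sc K a22 * e2 K F + sc K b22 * (e2 K F * T)) := by
    apply LinearMap.ext
    intro v
    have hv : X v = X (v.1, 0) + X (0, v.2) := by
      rw [← map_add]
      simp
    have k11 : (X (v.1, 0)).1 = a11 * v.1 + b11 * D.τ v.1 := h11 v.1
    have k12 : (X (0, v.2)).1 = a12 * v.2 + b12 * D.τ v.2 := h12 v.2
    have k21 : (X (v.1, 0)).2 = a21 * v.1 + b21 * D.τ v.1 := h21 v.1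
    have k22 : (X (0, v.2)).2 = a22 * v.2 + b22 * D.τ v.2 := h22 v.2
    rw [hv]
    apply Prod.ext
    · simp only [Prod.fst_add, LinearMap.add_apply, Module.End.mul_apply, sc_apply, e1_apply, e2_apply, he12, he21, hT,
        k11, k12]
      ring
    · simp only [Prod.snd_add, LinearMap.add_apply, Module.End.mul_apply, sc_apply, e1_apply, e2_apply, he12, he21, hT,
        k21, k22]
      ring
  rw [hX]
  simp only [hadd, hmul, hs, he1, he2, hf12, hf21, hfT]

/-- There is no anti-automorphism mapping `yᵢ` to `-yᵢ`, `i = 1, …, 4`. -/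
theorem anti_false {f : Module.End K (F × F) → Module.End K (F × F)}
    (hmul : ∀ X Y, f (X * Y) = f Y * f X) {σ : F →+* F}
    (hσ : ∀ a, f (sc K a) = sc K (σ a)) (h1 : f D.y1 = -D.y1) (h2 : f D.y2 = -D.y2) (h3 : f D.y3 = -D.y3)
    (h4 : f D.y4 = -D.y4) : False := by
  have hu : f (D.y1 * D.y2) = D.y2 * D.y1 := by rw [hmul, h1, h2]; ext v <;> simp
  have hu' : f (D.y2 * D.y1) = D.y1 * D.y2 := by rw [hmul, h1, h2]; ext v <;> simp
  -- `σ = τ`
  have hσγ : σ D.γ = D.τ D.γ := by
    have h5 : D.y1 * D.y2 * (D.y1 * D.y2) = sc K (D.τ D.γ) * (D.y1 * D.y2) := by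
      ext v <;> simp [D.invol]
    have h6 := congrArg f h5
    rw [hmul, hmul (sc K (D.τ D.γ)), hu, hσ] at h6
    have h7 := LinearMap.congr_fun h6 ((0 : F), (1 : F))
    have h8 : D.γ * D.γ = D.γ * σ (D.τ D.γ) := by simpa [D.invol, D.comm] using congrArg Prod.snd h7
    have h9 := mul_left_cancel₀ D.γ0 h8
    rw [D.comm] at h9
    have h10 := congrArg D.τ h9
    rw [D.invol] at h10
    exact h10.symm
  have hs : ∀ a, f (sc K a) = sc K (D.τ a) := fun a => by rw [hσ, D.hom_τ hσγ]
  have he1 : f (e1 K F) = e2 K F := by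
    have h5 : e1 K F = sc K (D.τ D.γ)⁻¹ * (D.y1 * D.y2) := by
      ext v <;> simp [D.invol, D.τγ0]
    rw [h5, hmul, hs, hu]
    ext v <;> simp [D.invol, D.γ0]
  have he2 : f (e2 K F) = e1 K F := by
    have h5 : e2 K F = sc K D.γ⁻¹ * (D.y2 * D.y1) := by
      ext v <;> simp [D.invol, D.γ0]
    rw [h5, hmul, hs, hu']
    ext v <;> simp [D.invol, D.γ0]
  have h5 : e1 K F * D.y4 * e1 K F = sc K (D.τ D.γ) * (e1 K F * D.y3 * e1 K F) := by
    ext v <;> simp
  have h6 := congrArg f h5
  rw [hmul, hmul, he1, h4, hmul, hmul, hmul, he1, h3, hs] at h6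
  have h7 := LinearMap.congr_fun h6 ((0 : F), (1 : F))
  have h8 : D.γ = D.τ D.γ := by simpa [D.invol] using congrArg Prod.snd h7
  exact D.ne h8.symm

/-- **The model theorem.** -/
theorem model [Finite K] [Finite F] (hf : Module.finrank K F = 2) (f : Equiv.Perm (Module.End K (F × F)))
    (hadd : ∀ X Y, f (X + Y) = f X + f Y)
    (hm : (∀ X Y, f (X * Y) = f X * f Y) ∨ ∀ X Y, f (X * Y) = f Y * f X)
    (hE : ∀ a : F, ∃ b : F, f (sc K a) = sc K b)
    (hx : ∀ y, (y = D.y1 ∨ y = D.y2 ∨ y = D.y3 ∨ y = D.y4) → ∀ a : F, ∃ b : F,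
      (1 + y) * f ((1 - y) * sc K a * (1 + y)) * (1 - y) = sc K b) : f = 1 := by
  have hf0 : f 0 = 0 := by
    have := hadd 0 0
    rw [add_zero] at this
    exact left_eq_add.1 this
  have hneg : ∀ X, f (-X) = -f X := by
    intro X
    have h5 := hadd X (-X)
    rw [add_neg_cancel, hf0] at h5
    exact (neg_eq_of_add_eq_zero_right h5.symm).symm
  have hf1 : f 1 = 1 := by
    obtain ⟨Z, hZ⟩ := f.surjective 1
    rcases hm with hm | hm
    · have h1 := hm Z 1
      rw [mul_one, hZ, one_mul] at h1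
      exact h1.symm
    · have h1 := hm 1 Z
      rw [one_mul, hZ, one_mul] at h1
      exact h1.symm
  -- `σ`
  choose φ hφ using hE
  have hφmul : ∀ a b, φ (a * b) = φ a * φ b := by
    intro a b
    apply sc_inj (K := K)
    rw [← hφ, sc_mul]
    rcases hm with hm | hm
    · rw [hm, hφ, hφ, sc_mul]
    · rw [hm, hφ, hφ, ← sc_mul, mul_comm]
  let σ : F →+* F :=
    { toFun := φ
      map_one' := by
        apply sc_inj (K := K)
        rw [← hφ, map_one, hf1]
      map_mul' := hφmul
      map_zero' := by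
        apply sc_inj (K := K)
        rw [← hφ, map_zero, hf0]
      map_add' := fun a b => by
        apply sc_inj (K := K)
        rw [← hφ, sc_add, sc_add, hadd, hφ, hφ] }
  have hσ : ∀ a, f (sc K a) = sc K (σ a) := hφ
  have hσs : Function.Surjective σ := Finite.surjective_of_injective σ.injective
  have hunit : ∀ y : Module.End K (F × F), y * y = 0 → (1 + y) * (1 - y) = 1 ∧ (1 - y) * (1 + y) = 1 := by
    intro y hy
    constructor
    · rw [mul_sub, mul_one, add_mul, one_mul, hy, add_zero, add_sub_cancel_right]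
    · rw [mul_add, mul_one, sub_mul, one_mul, hy, sub_zero, sub_add_cancel]
  rcases hm with hm | hm
  · -- automorphisms
    have key : ∀ y, D.SL y → y * y = 0 → (y = D.y1 ∨ y = D.y2 ∨ y = D.y3 ∨ y = D.y4) → f y = y := by
      intro y hys hyy hy
      have hzs : D.SL (f y) := by
        intro a
        obtain ⟨b, rfl⟩ := hσs a
        rw [← hσ, ← hm, hys, hm, hσ, D.comm]
      have hzz : f y * f y = 0 := by rw [← hm, hyy, hf0]
      obtain ⟨u1, u2⟩ := hunit y hyy
      obtain ⟨w1, w2⟩ := hunit (f y) hzz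
      refine D.eq_of_norm hys hzs hyy ?_ ?_
      · exact ⟨⟨(1 + y) * (1 - f y), (1 + f y) * (1 - y), by
          calc (1 + y) * (1 - f y) * ((1 + f y) * (1 - y)) = (1 + y) * ((1 - f y) * (1 + f y)) * (1 - y) := by
                simp only [mul_assoc]
            _ = 1 := by rw [w2, mul_one, u1], by
          calc (1 + f y) * (1 - y) * ((1 + y) * (1 - f y)) = (1 + f y) * ((1 - y) * (1 + y)) * (1 - f y) := by
                simp only [mul_assoc]
            _ = 1 := by rw [u2, mul_one, w1]⟩, rfl⟩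
      · intro a
        obtain ⟨b, rfl⟩ := hσs a
        obtain ⟨c, hc⟩ := hx y hy b
        refine ⟨c, ?_⟩
        have e1 : f (1 - y) = 1 - f y := by rw [sub_eq_add_neg, hadd, hneg, hf1, ← sub_eq_add_neg]
        have e2 : f (1 + y) = 1 + f y := by rw [hadd, hf1]
        rw [hm, hm, e1, e2, hσ] at hc
        rw [← hc]
        calc (1 + y) * (1 - f y) * sc K (σ b)
            = (1 + y) * (1 - f y) * sc K (σ b) * (((1 + f y) * ((1 - y) * (1 + y))) * (1 - f y)) := by
              rw [u2, mul_one, w1, mul_one]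
          _ = (1 + y) * ((1 - f y) * sc K (σ b) * (1 + f y)) * (1 - y) * ((1 + y) * (1 - f y)) := by
              simp only [mul_assoc]
    apply Equiv.ext
    intro X
    exact D.auto_eq hf hadd hm hσ (key _ D.sl1 D.sq1 (Or.inl rfl)) (key _ D.sl2 D.sq2 (Or.inr (Or.inl rfl)))
      (key _ D.sl3 D.sq3 (Or.inr (Or.inr (Or.inl rfl)))) X
  · -- anti-automorphisms
    exfalso
    have key : ∀ y, D.SL y → y * y = 0 → (y = D.y1 ∨ y = D.y2 ∨ y = D.y3 ∨ y = D.y4) → f y = -y := by
      intro y hys hyy hy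
      have hys' : ∀ a, sc K a * y = y * sc K (D.τ a) := fun a => by rw [hys, D.invol]
      have hzs : D.SL (f y) := by
        intro a
        obtain ⟨b, rfl⟩ := hσs a
        rw [← hσ, ← hm, hys', hm, hσ, D.comm]
      have hzs' : D.SL (-f y) := by
        intro a
        apply LinearMap.ext
        intro v
        have := LinearMap.congr_fun (hzs a) v
        simp only [Module.End.mul_apply, LinearMap.neg_apply, map_neg] at this ⊢
        rw [this]
      have hzz : f y * f y = 0 := by rw [← hm, hyy, hf0]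
      obtain ⟨u1, u2⟩ := hunit y hyy
      obtain ⟨w1, w2⟩ := hunit (f y) hzz
      have h1 : -f y = y := by
        refine D.eq_of_norm hys hzs' hyy ?_ ?_
        · rw [sub_neg_eq_add]
          exact ⟨⟨(1 + y) * (1 + f y), (1 - f y) * (1 - y), by
            calc (1 + y) * (1 + f y) * ((1 - f y) * (1 - y)) = (1 + y) * ((1 + f y) * (1 - f y)) * (1 - y) := by
                  simp only [mul_assoc]
              _ = 1 := by rw [w1, mul_one, u1], by
            calc (1 - f y) * (1 - y) * ((1 + y) * (1 + f y)) = (1 - f y) * ((1 - y) * (1 + y)) * (1 + f y) := by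
                  simp only [mul_assoc]
              _ = 1 := by rw [u2, mul_one, w2]⟩, rfl⟩
        · intro a
          rw [sub_neg_eq_add]
          obtain ⟨b, rfl⟩ := hσs a
          obtain ⟨c, hc⟩ := hx y hy b
          refine ⟨c, ?_⟩
          have e1 : f (1 - y) = 1 - f y := by rw [sub_eq_add_neg, hadd, hneg, hf1, ← sub_eq_add_neg]
          have e2 : f (1 + y) = 1 + f y := by rw [hadd, hf1]
          rw [hm, hm, e1, e2, hσ] at hc
          rw [← hc]
          calc (1 + y) * (1 + f y) * sc K (σ b)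
              = (1 + y) * (1 + f y) * sc K (σ b) * (((1 - f y) * ((1 - y) * (1 + y))) * (1 + f y)) := by
                rw [u2, mul_one, w2, mul_one]
            _ = (1 + y) * ((1 + f y) * (sc K (σ b) * (1 - f y))) * (1 - y) * ((1 + y) * (1 + f y)) := by
                simp only [mul_assoc]
      rw [← neg_neg (f y), h1]
    exact D.anti_false hm hσ (key _ D.sl1 D.sq1 (Or.inl rfl)) (key _ D.sl2 D.sq2 (Or.inr (Or.inl rfl)))
      (key _ D.sl3 D.sq3 (Or.inr (Or.inr (Or.inl rfl)))) (key _ D.sl4 D.sq4 (Or.inr (Or.inr (Or.inr rfl))))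

end Dat

end

end Cfsg.Agent.H245.FC
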