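import Cfsg.Agent.H245.FC.CThree
import Cfsg.Agent.H786.FC.Parts

/-!
# S5764, L-C3b in the exact form of `H786.FC.Parts`
-/

set_option autoImplicit false

namespace Cfsg.Agent.H245.FC

universe u v

theorem stmtC3b : Cfsg.Agent.H786.FC.StmtC3b.{u, v} :=
  fun K _ _ V _ _ _ S hS _ _ E hE _ hES h4 => stmtC3_four K V S hS h4.1 E hE h4.2 hES

end Cfsg.Agent.H245.FC
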